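import Groth.Prelude.Def_LefPen
import Mathlib

/-!
The hypersurface ideal sheaf on a standard chart is generated by the dehomogenised form.
-/

set_option autoImplicit false
universe u

open CategoryTheory CategoryTheory.Limits AlgebraicGeometry Opposite LefPen
  HomogeneousLocalization TopologicalSpace

namespace Groth.Agent.H25Transversal

variable {r : ℕ} {k : Type u} [Field k] {d : ℕ}

/-- the chart as an affine open. -/
noncomputable def chartU (r : ℕ) (k : Type u) [Field k] (j : Fin (r + 1)) :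
    (CohB1.ProjSpace r k).affineOpens :=
  ⟨chart r k j, Proj.isAffineOpen_basicOpen _ _ (X_mem r k j) one_pos⟩

instance isSeparated_projSpace (r : ℕ) (k : Type u) [Field k] :
    (CohB1.ProjSpace r k).IsSeparated :=
  inferInstanceAs (Proj (CohB1.polyGrading r k)).IsSeparated

instance isAffineHom_chartι (j : Fin (r + 1)) : IsAffineHom (chart r k j).ι :=
  haveI : IsAffine (chart r k j).toScheme := (chartU r k j).2
  MorphismProperty.of_postcomp (W := @IsAffineHom) (W' := @IsSeparated) (chart r k j).ι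
    (CohB1.ProjSpace.toSpec r k) inferInstance inferInstance

theorem res_res {P : Scheme.{u}} {W V U : P.Opens} (h₁ : W ≤ V) (h₂ : V ≤ U) (a : Γ(P, U)) :
    (P.presheaf.map (homOfLE (h₁.trans h₂)).op).hom a =
      (P.presheaf.map (homOfLE h₁).op).hom ((P.presheaf.map (homOfLE h₂).op).hom a) := by
  rw [← ConcreteCategory.comp_apply (P.presheaf.map (homOfLE h₂).op), ← Functor.map_comp]
  rfl

theorem mem_of_res_refl {P : Scheme.{u}} {D W : P.Opens} (hW : W = D) (h₁ : W ≤ D) (g : Γ(P, D))
    (a : Γ(P, D)) (ha : (P.presheaf.map (homOfLE h₁).op).hom a ∈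
      Ideal.span {(P.presheaf.map (homOfLE h₁).op).hom g}) : a ∈ Ideal.span {g} := by
  subst hW
  simpa using ha

/-- one component of the hypersurface ideal. -/
noncomputable def comp (G : Form r k d) (i : Fin (r + 1)) : (CohB1.ProjSpace r k).IdealSheafData :=
  haveI : IsAffine (chart r k i).toScheme := (chartU r k i).2
  (Scheme.IdealSheafData.ofIdealTop
    (Ideal.span {(chart r k i).topIso.inv.hom (dehom G i)})).map (chart r k i).ι

theorem res_ideal_congr {P : Scheme.{u}} {U D W W' : P.Opens} (hW : W = W') (h₁ : W ≤ U)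
    (h₂ : W ≤ D) (g : Γ(P, D)) :
    Ideal.comap (P.presheaf.map (homOfLE h₁).op).hom
        (Ideal.span {(P.presheaf.map (homOfLE h₂).op).hom g}) =
      Ideal.comap (P.presheaf.map (homOfLE (hW ▸ h₁)).op).hom
        (Ideal.span {(P.presheaf.map (homOfLE (hW ▸ h₂ : W' ≤ D)).op).hom g}) := by
  subst hW; rfl

theorem comp_ideal (G : Form r k d) (i : Fin (r + 1)) (U : (CohB1.ProjSpace r k).affineOpens) :
    (comp G i).ideal U = Ideal.comap
      ((CohB1.ProjSpace r k).presheaf.map
        (homOfLE (inf_le_left : U.1 ⊓ chart r k i ≤ U.1)).op).hom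
      (Ideal.span {((CohB1.ProjSpace r k).presheaf.map
        (homOfLE (inf_le_right : U.1 ⊓ chart r k i ≤ chart r k i)).op).hom (dehom G i)}) := by
  haveI : IsAffine (chart r k i).toScheme := (chartU r k i).2
  rw [comp, Scheme.IdealSheafData.ideal_map_of_isAffineHom]
  have hW : U.1 ⊓ chart r k i = (chart r k i).ι ''ᵁ (chart r k i).ι ⁻¹ᵁ U.1 := by
    rw [Scheme.Hom.image_preimage_eq_opensRange_inf, Scheme.Opens.opensRange_ι, inf_comm]
  rw [res_ideal_congr hW]
  simp only [Scheme.IdealSheafData.ofIdealTop_ideal, Ideal.map_span, Set.image_singleton]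
  congr 2

theorem hypIdeal_eq (G : Form r k d) : hypIdeal G = ⨅ i, comp G i := by
  rw [hypIdeal, ← Scheme.IdealSheafData.ofIdeals_ideal (⨅ i, comp G i)]
  congr 1
  funext U
  rw [Scheme.IdealSheafData.ideal_iInf, iInf_apply, hypFamily]
  exact iInf_congr fun i => (comp_ideal G i U).symm

/-- on an overlap the two dehomogenisations differ by a factor. -/
theorem dehom_mem_span (G : Form r k d) (i j : Fin (r + 1))
    (W : (CohB1.ProjSpace r k).Opens) (hi : W ≤ chart r k i) (hj : W ≤ chart r k j) :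
    ((CohB1.ProjSpace r k).presheaf.map (homOfLE hj).op).hom (dehom G j) ∈
      Ideal.span {((CohB1.ProjSpace r k).presheaf.map (homOfLE hi).op).hom (dehom G i)} := by
  let 𝒜 := CohB1.polyGrading r k
  let x : MvPolynomial (Fin (r + 1)) k := MvPolynomial.X i * MvPolynomial.X j
  have hx' : x = MvPolynomial.X j * MvPolynomial.X i := mul_comm _ _
  have hW : W ≤ Proj.basicOpen 𝒜 x := by
    rw [Proj.basicOpen_mul]; exact le_inf hi hj
  have hG : G.1 ∈ 𝒜 (d • 1) := by rw [smul_eq_mul, mul_one]; exact G.2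
  have hxm : x ∈ 𝒜 (1 + 1) := SetLike.mul_mem_graded (X_mem r k i) (X_mem r k j)
  let u : Away 𝒜 x := Away.mk 𝒜 hxm d (MvPolynomial.X i ^ (2 * d)) (by
    rw [show d • (1 + 1) = (2 * d) • 1 by simp; ring]
    exact SetLike.pow_mem_graded _ (X_mem r k i))
  have hkey : awayMap 𝒜 (X_mem r k i) hx'
        (Away.mk 𝒜 (X_mem r k j) d G.1 hG) =
      u * awayMap 𝒜 (X_mem r k j) (rfl : x = MvPolynomial.X i * MvPolynomial.X j)
        (Away.mk 𝒜 (X_mem r k i) d G.1 hG) := by
    apply HomogeneousLocalization.val_injective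
    rw [HomogeneousLocalization.val_mul, awayMap_mk, awayMap_mk, Away.val_mk, Away.val_mk]
    simp only [u, Away.val_mk, Localization.mk_mul]
    refine Localization.mk_eq_mk_iff.mpr (Localization.r_iff_exists.mpr ⟨1, ?_⟩)
    simp only [OneMemClass.coe_one, one_mul, Submonoid.coe_mul]
    simp only [x, mul_pow, two_mul, pow_add]
    ring
  have h₁ := congrArg (fun φ => φ.hom (Away.mk 𝒜 (X_mem r k j) d G.1 hG))
    (Proj.awayMap_awayToSection 𝒜 (X_mem r k i) hx')
  have h₂ := congrArg (fun φ => φ.hom (Away.mk 𝒜 (X_mem r k i) d G.1 hG))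
    (Proj.awayMap_awayToSection 𝒜 (X_mem r k j) (rfl : x = MvPolynomial.X i * MvPolynomial.X j))
  simp only [CommRingCat.hom_comp, RingHom.comp_apply, CommRingCat.hom_ofHom] at h₁ h₂
  rw [hkey, map_mul, h₂] at h₁
  rw [Ideal.mem_span_singleton]
  refine ⟨((CohB1.ProjSpace r k).presheaf.map (homOfLE hW).op).hom
    ((Proj.awayToSection 𝒜 x).hom u), ?_⟩
  refine ((res_res (P := CohB1.ProjSpace r k) hW (Proj.basicOpen_mono 𝒜 _ _ ⟨_, hx'⟩)
    (dehom G j)).trans ?_).trans (congrArg (· * _)
      (res_res (P := CohB1.ProjSpace r k) hW (Proj.basicOpen_mono 𝒜 _ _ ⟨_, rfl⟩)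
        (dehom G i)).symm)
  refine (congrArg _ h₁.symm).trans ((map_mul _ _ _).trans ?_)
  exact mul_comm _ _

/-- **chart description**. -/
theorem hypIdeal_ideal_chart (G : Form r k d) (j : Fin (r + 1)) :
    (hypIdeal G).ideal (chartU r k j) = Ideal.span {dehom G j} := by
  rw [hypIdeal_eq, Scheme.IdealSheafData.ideal_iInf, iInf_apply]
  refine le_antisymm ?_ (le_iInf fun i => ?_)
  · refine (iInf_le _ j).trans ?_
    rw [comp_ideal]
    intro a ha
    exact mem_of_res_refl (P := CohB1.ProjSpace r k) (inf_idem (chart r k j)) inf_le_left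
      (dehom G j) a ha
  · rw [comp_ideal]
    refine (Ideal.span_singleton_le_iff_mem _).mpr ?_
    exact dehom_mem_span G i j _ inf_le_right inf_le_left

end Groth.Agent.H25Transversal
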