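import Groth.Agent.H25Param.Incidence
import Groth.Agent.H29Curve.Trdeg
import Mathlib

/-!
Algebra of hypersurface sections of a standard smooth algebra over an algebraically closed field.
-/

set_option autoImplicit false
set_option linter.style.haveILetI false
universe u

namespace Groth.Agent.H25Transversal

open KaehlerDifferential TensorProduct

variable {k : Type u} [Field k] {A : Type u} [CommRing A] [Algebra k A] {n : ℕ}

local notation "B" h:max => A ⧸ Ideal.span ({h} : Set A)

/-- a unimodular differential makes the section formally smooth. -/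
theorem formallySmooth_quotient [Algebra.FormallySmooth k A]
    (b : Module.Basis (Fin n) A Ω[A⁄k]) (h : A)
    (hu : Ideal.span ({h} ∪ Set.range fun i => b.repr (D k A h) i) = ⊤) :
    Algebra.FormallySmooth k (B h) := by
  classical
  have h1 : (1 : A) ∈ Ideal.span ({h} ∪ Set.range fun i => b.repr (D k A h) i) := by rw [hu]; trivial
  rw [Ideal.span_union, Submodule.mem_sup] at h1
  obtain ⟨e, he, f, hf, hef⟩ := h1
  obtain ⟨a, ha⟩ := (Submodule.mem_span_range_iff_exists_fun A).mp hf
  let ψ : Ω[A⁄k] →ₗ[A] B h := (Algebra.linearMap A (B h)).comp (∑ i, a i • b.coord i)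
  have hψ : ψ (D k A h) = 1 := by
    have : (∑ i, a i • b.coord i) (D k A h) = f := by
      rw [← ha]; simp [LinearMap.sum_apply]
    change algebraMap A (B h) _ = 1
    rw [this, show f = 1 - e by rw [← hef]; ring, map_sub, map_one,
      show algebraMap A (B h) e = 0 from Ideal.Quotient.eq_zero_iff_mem.mpr he, sub_zero]
  let K := RingHom.ker (algebraMap A (B h))
  have hK : K = Ideal.span {h} := Ideal.mk_ker
  have hhK : h ∈ K := hK ▸ Ideal.subset_span rfl
  let c₀ : K.Cotangent := K.toCotangent ⟨h, hhK⟩
  have hc₀ : Ideal.span ({h} : Set A) ≤ LinearMap.ker (LinearMap.toSpanSingleton A _ c₀) := by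
    rw [Ideal.span_le, Set.singleton_subset_iff]
    change h • c₀ = 0
    rw [← map_smul, Ideal.toCotangent_eq_zero]
    change h * h ∈ K ^ 2
    rw [pow_two]
    exact Ideal.mul_mem_mul hhK hhK
  let s : B h →ₗ[A] K.Cotangent := (Ideal.span ({h} : Set A)).liftQ _ hc₀
  let z : (B h) ⊗[A] Ω[A⁄k] →ₗ[A] B h :=
    TensorProduct.lift ((LinearMap.mul A (B h)).compl₂ ψ)
  refine (Algebra.FormallySmooth.iff_split_injection Ideal.Quotient.mk_surjective).mpr
    ⟨s.comp z, LinearMap.ext fun c => ?_⟩
  obtain ⟨x, rfl⟩ := K.toCotangent_surjective c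
  obtain ⟨x, hx⟩ := x
  obtain ⟨t, rfl⟩ := Ideal.mem_span_singleton'.mp (hK ▸ hx)
  have hx' : K.toCotangent ⟨t * h, hx⟩ = t • c₀ := by rw [← map_smul]; rfl
  have hmain : z (1 ⊗ₜ[A] D k A h) = 1 := by simp [z, hψ]
  simp only [hx', map_smul, LinearMap.id_coe, id_eq]
  congr 1
  change s (z (kerCotangentToTensor k A (B h) c₀)) = c₀
  rw [KaehlerDifferential.kerCotangentToTensor_toCotangent, hmain]
  exact one_smul A c₀

/-- a section of the dual numbers is a derivation. -/
theorem exists_derivation {S : Type u} [CommRing S] [Algebra k S] (φ : S →+* TrivSqZeroExt S S)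
    (hfst : ∀ x, (φ x).fst = x) (hk : ∀ c : k, φ (algebraMap k S c) = algebraMap k _ c) :
    ∃ d : Derivation k S S, ∀ x, d x = (φ x).snd :=
  ⟨Derivation.mk'
    { toFun := fun x => (φ x).snd
      map_add' := fun x y => by simp
      map_smul' := fun c x => by
        rw [RingHom.id_apply, Algebra.smul_def c x, map_mul, hk, TrivSqZeroExt.algebraMap_eq_inl',
          TrivSqZeroExt.snd_mul]
        simp [Algebra.smul_def] }
    fun x y => by
      simp only [LinearMap.coe_mk, AddHom.coe_mk, map_mul, TrivSqZeroExt.snd_mul, hfst]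
      simp; ring, fun _ => rfl⟩

section Chart

variable (b : Module.Basis (Fin n) A Ω[A⁄k]) (a : Fin n → A) (hb : ∀ j, b j = D k A (a j))
  (h : A) (i : Fin n)

/-- the chart of the section where the `i`-th coefficient of `dh` is invertible. -/
abbrev secLoc : Type u :=
  Localization.Away (Ideal.Quotient.mk (Ideal.span ({h} : Set A)) (b.repr (D k A h) i))

theorem isUnit_coeff : IsUnit (algebraMap A (secLoc b h i) (b.repr (D k A h) i)) := by
  rw [IsScalarTower.algebraMap_apply A (B h) (secLoc b h i)]
  exact IsLocalization.Away.algebraMap_isUnit _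

theorem algebraMap_h : algebraMap A (secLoc b h i) h = 0 := by
  rw [IsScalarTower.algebraMap_apply A (B h) (secLoc b h i), Ideal.Quotient.algebraMap_eq,
    Ideal.Quotient.eq_zero_iff_mem.mpr (Ideal.mem_span_singleton_self h), map_zero]

include hb in
set_option maxHeartbeats 1000000 in
theorem exists_dual (j : {j : Fin n // j ≠ i}) :
    ∃ L : Ω[(secLoc b h i)⁄k] →ₗ[secLoc b h i] secLoc b h i, ∀ l : {j : Fin n // j ≠ i},
      L (D k _ (algebraMap A (secLoc b h i) (a l.1))) = if l = j then 1 else 0 := by
  classical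
  let w : A →ₐ[k] (secLoc b h i) := IsScalarTower.toAlgHom k A (secLoc b h i)
  obtain ⟨v, hv⟩ := (isUnit_coeff b h i).exists_left_inv
  let δ : A → (secLoc b h i) := fun x => w (b.repr (D k A x) j.1) -
    v * w (b.repr (D k A h) j.1) * w (b.repr (D k A x) i)
  have hδh : δ h = 0 := by
    have : v * w (b.repr (D k A h) i) = 1 := hv
    simp only [δ]
    linear_combination (-(w (b.repr (D k A h) j.1))) * this
  let φA : A →ₐ[k] TrivSqZeroExt (secLoc b h i) (secLoc b h i) :=
    { toFun := fun x => TrivSqZeroExt.inl (w x) + TrivSqZeroExt.inr (δ x)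
      map_one' := by simp [δ]
      map_mul' := fun x y => TrivSqZeroExt.ext (by simp) (by
        simp [δ, Derivation.leibniz]; ring)
      map_zero' := by simp [δ]
      map_add' := fun x y => TrivSqZeroExt.ext (by simp; try ring) (by simp [δ]; ring)
      commutes' := fun c => TrivSqZeroExt.ext (by
        simp [TrivSqZeroExt.algebraMap_eq_inl', w, ← IsScalarTower.algebraMap_apply]) (by
        simp [δ, TrivSqZeroExt.algebraMap_eq_inl']) }
  have hkill : ∀ x ∈ Ideal.span ({h} : Set A), φA x = 0 := by
    intro x hx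
    obtain ⟨t, rfl⟩ := Ideal.mem_span_singleton'.mp hx
    rw [map_mul]
    have : φA h = 0 := TrivSqZeroExt.ext
      (by simpa [φA, w] using algebraMap_h b h i) (by simpa [φA] using hδh)
    rw [this, mul_zero]
  let φB : (B h) →ₐ[k] TrivSqZeroExt (secLoc b h i) (secLoc b h i) := Ideal.Quotient.liftₐ _ φA hkill
  have hu : IsUnit (φB.toRingHom (Ideal.Quotient.mk _ (b.repr (D k A h) i))) := by
    rw [TrivSqZeroExt.isUnit_iff_isUnit_fst]
    change IsUnit (φA (b.repr (D k A h) i)).fst
    simpa [φA, w] using isUnit_coeff b h i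
  let φS : (secLoc b h i) →+* TrivSqZeroExt (secLoc b h i) (secLoc b h i) :=
    IsLocalization.Away.lift (Ideal.Quotient.mk _ (b.repr (D k A h) i)) hu
  have hφA : ∀ x, φS (w x) = φA x := fun x => by
    change φS (algebraMap A (secLoc b h i) x) = _
    rw [IsScalarTower.algebraMap_apply A (B h) (secLoc b h i)]
    exact IsLocalization.Away.lift_eq _ hu _
  have hfst : ∀ x, (φS x).fst = x := by
    have : (TrivSqZeroExt.fstHom (secLoc b h i) (secLoc b h i) (secLoc b h i)).toRingHom.comp φS = RingHom.id (secLoc b h i) :=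
      IsLocalization.ringHom_ext (Submonoid.powers (Ideal.Quotient.mk _ (b.repr (D k A h) i)))
        (Ideal.Quotient.ringHom_ext (RingHom.ext fun x => by
          change (φS (algebraMap (B h) (secLoc b h i) (algebraMap A (B h) x))).fst =
            algebraMap (B h) (secLoc b h i) (algebraMap A (B h) x)
          rw [← IsScalarTower.algebraMap_apply A (B h) (secLoc b h i),
            show algebraMap A (secLoc b h i) x = w x from rfl, hφA]
          simp [φA]))
    exact fun x => RingHom.congr_fun this x
  have hφk : ∀ c : k, φS (algebraMap k (secLoc b h i) c) = algebraMap k _ c := fun c => by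
    rw [← w.commutes, hφA, φA.commutes]
  obtain ⟨d, hd⟩ := exists_derivation φS hfst hφk
  refine ⟨d.liftKaehlerDifferential, fun l => ?_⟩
  rw [Derivation.liftKaehlerDifferential_comp_D, hd]
  change (φS (w (a l.1))).snd = _
  rw [hφA]
  simp only [φA, AlgHom.coe_mk, RingHom.coe_mk, MonoidHom.coe_mk, OneHom.coe_mk,
    TrivSqZeroExt.snd_add, TrivSqZeroExt.snd_inl, TrivSqZeroExt.snd_inr, zero_add, δ, ← hb,
    Module.Basis.repr_self, Finsupp.single_eq_of_ne l.2.symm, map_zero, mul_zero, sub_zero]
  rw [Finsupp.single_apply]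
  by_cases hlj : l = j
  · subst hlj; simp
  · rw [if_neg hlj, if_neg (fun hh => hlj (Subtype.ext hh)), map_zero]

include hb in
theorem exists_basis : ∃ bS : Module.Basis {j : Fin n // j ≠ i} (secLoc b h i) Ω[(secLoc b h i)⁄k],
    ∀ j, bS j = D k _ (algebraMap A (secLoc b h i) (a j.1)) := by
  classical
  let v : {j : Fin n // j ≠ i} → Ω[(secLoc b h i)⁄k] := fun j => D k (secLoc b h i) (algebraMap A (secLoc b h i) (a j.1))
  have hli : LinearIndependent (secLoc b h i) v := by
    rw [Fintype.linearIndependent_iff]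
    intro g hg j
    obtain ⟨L, hL⟩ := exists_dual b a hb h i j
    have := congrArg L hg
    simp only [map_sum, map_smul, v, hL, smul_eq_mul, mul_ite, mul_one, mul_zero,
      Finset.sum_ite_eq', Finset.mem_univ, if_true, map_zero] at this
    exact this
  have hmap : ∀ x : A, D k (secLoc b h i) (algebraMap A (secLoc b h i) x) =
      ∑ l, algebraMap A (secLoc b h i) (b.repr (D k A x) l) • D k (secLoc b h i) (algebraMap A (secLoc b h i) (a l)) := fun x => by
    have h2 := congrArg (KaehlerDifferential.map k k A (secLoc b h i)) (b.sum_repr (D k A x)).symm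
    rw [KaehlerDifferential.map_D, map_sum] at h2
    refine h2.trans (Finset.sum_congr rfl fun l _ => ?_)
    rw [map_smul, hb, KaehlerDifferential.map_D, algebraMap_smul]
  have hi : D k (secLoc b h i) (algebraMap A (secLoc b h i) (a i)) ∈ Submodule.span (secLoc b h i) (Set.range v) := by
    have h0 := hmap h
    rw [algebraMap_h, map_zero, Fintype.sum_eq_add_sum_subtype_ne _ i, eq_comm,
      add_eq_zero_iff_eq_neg] at h0
    obtain ⟨c, hc⟩ := (isUnit_coeff b h i).exists_left_inv
    have h1 := congrArg (c • ·) h0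
    simp only [smul_smul, hc, one_smul, smul_neg] at h1
    rw [h1]
    exact Submodule.neg_mem _ (Submodule.smul_mem _ _ (Submodule.sum_mem _ fun l _ =>
      Submodule.smul_mem _ _ (Submodule.subset_span ⟨l, rfl⟩)))
  have halg : ∀ x : A, D k (secLoc b h i) (algebraMap A (secLoc b h i) x) ∈ Submodule.span (secLoc b h i) (Set.range v) := fun x => by
    rw [hmap]
    refine Submodule.sum_mem _ fun l _ => Submodule.smul_mem _ _ ?_
    by_cases hl : l = i
    · subst hl; exact hi
    · exact Submodule.subset_span ⟨⟨l, hl⟩, rfl⟩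
  refine ⟨Module.Basis.mk hli ?_, fun j => Module.Basis.mk_apply _ _ j⟩
  rw [← KaehlerDifferential.span_range_derivation k (secLoc b h i), Submodule.span_le]
  rintro _ ⟨s, rfl⟩
  obtain ⟨⟨y, ⟨_, m, rfl⟩⟩, hs⟩ := IsLocalization.surj
    (Submonoid.powers (Ideal.Quotient.mk (Ideal.span ({h} : Set A)) (b.repr (D k A h) i))) s
  obtain ⟨y, rfl⟩ := Ideal.Quotient.mk_surjective y
  simp only [← map_pow, ← Ideal.Quotient.algebraMap_eq,
    ← IsScalarTower.algebraMap_apply] at hs
  have hd := congrArg (D k (secLoc b h i)) hs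
  rw [Derivation.leibniz, add_comm] at hd
  obtain ⟨c, hc⟩ := ((isUnit_coeff b h i).pow m).exists_left_inv
  rw [← map_pow] at hc
  have hds := congrArg (c • ·) (eq_sub_of_add_eq hd)
  simp only [smul_smul, hc, one_smul] at hds
  rw [hds]
  exact Submodule.smul_mem _ _ (Submodule.sub_mem _ (halg y) (Submodule.smul_mem _ _ (halg _)))

include hb in
theorem isStandardSmooth_secLoc [Algebra.FinitePresentation k A]
    [Algebra.FormallySmooth k (B h)] [Nontrivial (secLoc b h i)] :
    Algebra.IsStandardSmoothOfRelativeDimension (n - 1) k (secLoc b h i) := by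
  haveI : Algebra.FinitePresentation k (B h) :=
    Algebra.FinitePresentation.quotient (Submodule.fg_span_singleton h)
  haveI : Algebra.FinitePresentation (B h) (secLoc b h i) :=
    IsLocalization.Away.finitePresentation (Ideal.Quotient.mk _ (b.repr (D k A h) i))
  haveI : Algebra.FinitePresentation k (secLoc b h i) :=
    Algebra.FinitePresentation.trans k (B h) (secLoc b h i)
  haveI : Algebra.FormallySmooth (B h) (secLoc b h i) :=
    Algebra.FormallySmooth.of_isLocalization
      (Submonoid.powers (Ideal.Quotient.mk _ (b.repr (D k A h) i)))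
  haveI : Algebra.FormallySmooth k (secLoc b h i) := Algebra.FormallySmooth.comp k (B h) _
  obtain ⟨bS, hbS⟩ := exists_basis b a hb h i
  haveI : Algebra.IsStandardSmooth k (secLoc b h i) :=
    Algebra.IsStandardSmooth.iff_exists_basis_kaehlerDifferential.mpr
      ⟨inferInstance, _, bS, by
        rintro _ ⟨j, rfl⟩
        exact ⟨_, (hbS j).symm⟩⟩
  rw [Algebra.IsStandardSmoothOfRelativeDimension.iff_of_isStandardSmooth,
    rank_eq_card_basis bS, Fintype.card_subtype_compl, Fintype.card_fin, Fintype.card_subtype_eq]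

end Chart

/-- **smooth section**: a unimodular differential gives relative dimension `n - 1`. -/
theorem locally_standardSmooth [Algebra.FinitePresentation k A] [Algebra.FormallySmooth k A]
    (b : Module.Basis (Fin n) A Ω[A⁄k]) (a : Fin n → A) (hb : ∀ j, b j = D k A (a j)) (h : A)
    (hu : Ideal.span ({h} ∪ Set.range fun i => b.repr (D k A h) i) = ⊤) :
    RingHom.Locally (RingHom.IsStandardSmoothOfRelativeDimension (n - 1))
      (algebraMap k (B h)) := by
  haveI := formallySmooth_quotient b h hu
  refine ⟨{f | Algebra.IsStandardSmoothOfRelativeDimension (n - 1) k (Localization.Away f)},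
    ?_, fun f hf => ?_⟩
  · by_contra htop
    obtain ⟨p, hp, hle⟩ := Ideal.exists_le_maximal _ htop
    obtain ⟨i, hi⟩ : ∃ i, Ideal.Quotient.mk (Ideal.span {h}) (b.repr (D k A h) i) ∉ p := by
      by_contra! hc
      refine hp.ne_top ((Ideal.eq_top_iff_one _).mpr ?_)
      have h1 : Ideal.span ({h} ∪ Set.range fun i => b.repr (D k A h) i) ≤
          p.comap (Ideal.Quotient.mk (Ideal.span {h})) := by
        rw [Ideal.span_le]
        rintro x (rfl | ⟨i, rfl⟩)
        · simp [Ideal.Quotient.eq_zero_iff_mem.mpr (Ideal.subset_span rfl)]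
        · exact hc i
      simpa using h1 (hu.symm ▸ Submodule.mem_top : (1 : A) ∈ _)
    haveI : Nontrivial (secLoc b h i) := by
      rw [nontrivial_iff]
      refine ⟨0, 1, fun h01 => hi ?_⟩
      obtain ⟨⟨c, m, rfl⟩, hm⟩ := (IsLocalization.map_eq_zero_iff
        (Submonoid.powers (Ideal.Quotient.mk (Ideal.span {h}) (b.repr (D k A h) i)))
        (secLoc b h i) 1).mp (by rw [map_one, ← h01])
      rw [mul_one] at hm
      exact hp.isPrime.mem_of_pow_mem m (by have hm' : Ideal.Quotient.mk (Ideal.span {h}) (b.repr (D k A h) i) ^ m = 0 := hm; rw [hm']; exact p.zero_mem)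
    exact hi (hle (Ideal.subset_span (isStandardSmooth_secLoc b a hb h i)))
  · rw [← IsScalarTower.algebraMap_eq]
    beta_reduce
    rw [RingHom.isStandardSmoothOfRelativeDimension_algebraMap]
    exact hf

/-- a proper ideal of a finitely generated algebra over an algebraically closed field has a point. -/
theorem exists_point [IsAlgClosed k] [Algebra.FiniteType k A] {I : Ideal A} (hI : I ≠ ⊤) :
    ∃ p : A →ₐ[k] k, ∀ x ∈ I, p x = 0 := by
  obtain ⟨m, hm, hle⟩ := Ideal.exists_le_maximal I hI
  letI := Ideal.Quotient.field m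
  haveI : Algebra.FiniteType k (A ⧸ m) :=
    Algebra.FiniteType.of_surjective (Ideal.Quotient.mkₐ k m) Ideal.Quotient.mk_surjective
  haveI : Module.Finite k (A ⧸ m) := finite_of_finite_type_of_isJacobsonRing k (A ⧸ m)
  haveI : Algebra.IsIntegral k (A ⧸ m) := Algebra.IsIntegral.of_finite k _
  let e : k ≃ₐ[k] A ⧸ m := AlgEquiv.ofBijective (Algebra.ofId k (A ⧸ m))
    (IsAlgClosed.algebraMap_bijective_of_isIntegral (k := k) (K := A ⧸ m))
  refine ⟨e.symm.toAlgHom.comp (Ideal.Quotient.mkₐ k m), fun x hx => ?_⟩
  simp [Ideal.Quotient.eq_zero_iff_mem.mpr (hle hx)]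

/-- transcendence degree is at most the dimension. -/
theorem trdeg_le [IsDomain A] [Algebra.FiniteType k A] (hn : ringKrullDim A = n) :
    Algebra.trdeg k A ≤ n := by
  obtain ⟨s, g, hg, hfin⟩ := exists_finite_inj_algHom_of_fg k A
  have hs : s ≤ n := by
    have h1 := (H29Curve.ringKrullDim_le_of_isIntegral g.toRingHom
      (RingHom.IsIntegral.of_finite hfin) hg).trans_eq hn
    rw [MvPolynomial.ringKrullDim_of_isNoetherianRing, ringKrullDim_eq_zero_of_field, zero_add,
      Nat.card_fin] at h1
    exact_mod_cast h1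
  let S : Set A := Set.range fun i => g (MvPolynomial.X i)
  haveI : Algebra.IsAlgebraic (Algebra.adjoin k S) A := by
    refine ⟨fun x => IsIntegral.isAlgebraic ?_⟩
    obtain ⟨P, hPm, hP⟩ := RingHom.IsIntegral.of_finite hfin x
    let g' : MvPolynomial (Fin s) k →ₐ[k] Algebra.adjoin k S := MvPolynomial.aeval fun i =>
      ⟨g (MvPolynomial.X i), Algebra.subset_adjoin ⟨i, rfl⟩⟩
    refine ⟨P.map g'.toRingHom, hPm.map _, ?_⟩
    rw [Polynomial.eval₂_map]
    have : (algebraMap (Algebra.adjoin k S) A).comp g'.toRingHom = g.toRingHom :=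
      MvPolynomial.ringHom_ext (fun c => by simp [g']) (fun i => by simp [g'])
    rw [this]
    exact hP
  refine (Algebra.IsAlgebraic.trdeg_le_cardinalMk k S).trans ?_
  have h2 := Cardinal.mk_range_le_lift (f := fun i => g (MvPolynomial.X i))
  simp only [Cardinal.mk_fin, Cardinal.lift_natCast, Cardinal.lift_id'] at h2
  exact le_trans (by simpa [S] using h2) (by exact_mod_cast hs)

/-- the conditions "value and differential". -/
noncomputable def condMap {V : Type u} [AddCommGroup V] [Module k V]
    (b : Module.Basis (Fin n) A Ω[A⁄k]) (φ : V →ₗ[k] A) : V →ₗ[k] Option (Fin n) → A :=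
  LinearMap.pi fun o => o.elim φ fun i =>
    ((b.coord i).restrictScalars k).comp ((D k A).toLinearMap.comp φ)

theorem condMap_surjective {V : Type u} [AddCommGroup V] [Module k V]
    (b : Module.Basis (Fin n) A Ω[A⁄k]) (φ : V →ₗ[k] A) {ι : Type} (g : ι → A) (j : ι)
    (hgj : g j = 1) (hgen : Submodule.span A (Set.range fun l => D k A (g l)) = ⊤)
    (hφ : ∀ l, ∃ v, φ v = g l) (p : A →ₐ[k] k) :
    Function.Surjective (H25Param.evalAt (condMap b φ) p) := by
  classical
  let M := LinearMap.range (H25Param.evalAt (condMap b φ) p)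
  have hmem : ∀ l, (fun o : Option (Fin n) => o.elim (p (g l))
      fun i => p (b.repr (D k A (g l)) i)) ∈ M := fun l => by
    obtain ⟨v, hv⟩ := hφ l
    refine ⟨v, funext fun o => ?_⟩
    cases o <;> simp [condMap, hv]
  have hnone : Pi.single none 1 ∈ M := by
    convert hmem j using 1
    ext o
    cases o <;> simp [hgj]
  have hcomb : ∀ ω : Ω[A⁄k],
      (fun o : Option (Fin n) => o.elim 0 fun i => p (b.repr ω i)) ∈ M := by
    intro ω
    have hω : ω ∈ Submodule.span A (Set.range fun l => D k A (g l)) := by rw [hgen]; trivial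
    induction hω using Submodule.span_induction with
    | mem x hx =>
      obtain ⟨l, rfl⟩ := hx
      convert M.sub_mem (hmem l) (M.smul_mem (p (g l)) hnone) using 1
      ext o
      cases o <;> simp
    | zero =>
      convert M.zero_mem using 1
      ext o; cases o <;> simp
    | add x y _ _ hx hy =>
      convert M.add_mem hx hy using 1
      ext o; cases o <;> simp
    | smul c x _ hx =>
      convert M.smul_mem (p c) hx using 1
      ext o; cases o <;> simp
  rw [← LinearMap.range_eq_top, eq_top_iff]
  intro y _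
  have : y = y none • Pi.single none 1 +
      ∑ i, y (some i) • fun o : Option (Fin n) => o.elim 0 fun l => p (b.repr (b i) l) := by
    ext o
    cases o with
    | none => simp [Finset.sum_apply]
    | some l => simp [Finset.sum_apply, Finsupp.single_apply]
  rw [this]
  exact M.add_mem (M.smul_mem _ hnone) (M.sum_mem fun i _ => M.smul_mem _ (hcomb (b i)))

end Groth.Agent.H25Transversal
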