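import Groth.Agent.H25Transversal.HypChart
import Groth.Agent.H25Transversal.Algebra
import Groth.Agent.H29Blow.Basic
import Groth.Agent.H11Proj.ProjSpace
import Groth.Agent.H8Props.FieldDimSmooth
import Groth.Agent.H02CA.SmoothRegular

/-!
General hypersurface sections of a smooth projective variety are transversal.
-/

set_option autoImplicit false
set_option linter.style.haveILetI false
universe u

open CategoryTheory CategoryTheory.Limits AlgebraicGeometry Opposite LefPen TopologicalSpace
  HomogeneousLocalization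

namespace Groth.Agent.H25Transversal

variable {r : ℕ} {k : Type u} [Field k]

/-- polynomials as sections on a chart. -/
noncomputable def polyToSection (r : ℕ) (k : Type u) [Field k] (j : Fin (r + 1)) :
    MvPolynomial (Fin (r + 1)) k →+* Γ(CohB1.ProjSpace r k, chart r k j) :=
  ((Proj.awayToSection (CohB1.polyGrading r k) (MvPolynomial.X j)).hom).comp
    (H11Proj.awayProjHom (CohB1.polyGrading r k) (X_mem r k j))

theorem polyToSection_form {d : ℕ} (G : Form r k d) (j : Fin (r + 1)) :
    polyToSection r k j G.1 = dehom G j :=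
  congrArg (fun a => (Proj.awayToSection (CohB1.polyGrading r k) (MvPolynomial.X j)).hom a)
    (H11Proj.awayProjHom_mk _ (X_mem r k j) (n := d) (by rw [smul_eq_mul, mul_one]; exact G.2))

theorem polyToSection_surjective (j : Fin (r + 1)) :
    Function.Surjective (polyToSection r k j) := by
  haveI : IsIso (Proj.awayToSection (CohB1.polyGrading r k) (MvPolynomial.X j)) :=
    inferInstanceAs (IsIso (Proj.basicOpenIsoAway _ _ (X_mem r k j) one_pos).hom)
  refine (ConcreteCategory.bijective_of_isIso
    (Proj.awayToSection (CohB1.polyGrading r k) (MvPolynomial.X j))).2.comp fun z => ?_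
  obtain ⟨m, a, ha, rfl⟩ := Away.mk_surjective (CohB1.polyGrading r k) (X_mem r k j) z
  exact ⟨a, H11Proj.awayProjHom_mk _ (X_mem r k j) ha⟩

theorem polyToSection_self (j : Fin (r + 1)) :
    polyToSection r k j (MvPolynomial.X j) = 1 :=
  (congrArg (fun a => (Proj.awayToSection (CohB1.polyGrading r k) (MvPolynomial.X j)).hom a)
    (H11Proj.awayProjHom_self _ (X_mem r k j))).trans (map_one _)

theorem fromSpec_toSpec (j : Fin (r + 1)) :
    (chartU r k j).2.fromSpec ≫ CohB1.ProjSpace.toSpec r k =
      Spec.map (CommRingCat.ofHom ((polyToSection r k j).comp MvPolynomial.C)) := by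
  let 𝒜 := CohB1.polyGrading r k
  let a2s := Proj.awayToSection 𝒜 (MvPolynomial.X j)
  have hU : IsAffineOpen (Proj.basicOpen 𝒜 (MvPolynomial.X j)) :=
    Proj.isAffineOpen_basicOpen _ _ (X_mem r k j) one_pos
  have h1 : Spec.map a2s ≫ Proj.awayι 𝒜 (MvPolynomial.X j) (X_mem r k j) one_pos =
      hU.fromSpec := by
    rw [← cancel_epi hU.isoSpec.hom, IsAffineOpen.fromSpec, Iso.hom_inv_id_assoc,
      IsAffineOpen.isoSpec_hom, ← Category.assoc]
    exact (Proj.basicOpenIsoSpec 𝒜 (MvPolynomial.X j) (X_mem r k j) one_pos).hom_inv_id_assoc _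
  have h2 : (Spec.map a2s ≫ Proj.awayι 𝒜 (MvPolynomial.X j) (X_mem r k j) one_pos) ≫
      CohB1.ProjSpace.toSpec r k = Spec.map a2s ≫ Spec.map (CommRingCat.ofHom
        ((H11Proj.ProjSpace.chartMap r k j).comp MvPolynomial.C)) :=
    (Category.assoc _ _ _).trans
      (congrArg (Spec.map a2s ≫ ·) (H11Proj.ProjSpace.awayι_toSpec r k j))
  refine Eq.trans ?_ (h2.trans ((Spec.map_comp _ _).symm.trans (congrArg Spec.map ?_)))
  · exact congrArg (· ≫ CohB1.ProjSpace.toSpec r k) h1.symm
  · ext c
    change (Proj.awayToSection 𝒜 (MvPolynomial.X j)).hom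
      (H11Proj.ProjSpace.chartMap r k j (MvPolynomial.C c)) =
        (Proj.awayToSection 𝒜 (MvPolynomial.X j)).hom
          (H11Proj.awayProjHom 𝒜 (X_mem r k j) (MvPolynomial.C c))
    congr 1
    rw [← RingHom.congr_fun (H11Proj.ProjSpace.chartMap_comp_dehom r k j) (MvPolynomial.C c)]
    simp [H11Proj.ProjSpace.dehom]

theorem span_D_generators {A : Type u} [CommRing A] [Algebra k A] {ι : Type} (g : ι → A)
    (hu : (MvPolynomial.aeval (R := k) g).toRingHom.FormallyUnramified) :
    Submodule.span A (Set.range fun l => KaehlerDifferential.D k A (g l)) = ⊤ := by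
  letI := (MvPolynomial.aeval (R := k) g).toRingHom.toAlgebra
  haveI : IsScalarTower k (MvPolynomial ι k) A :=
    IsScalarTower.of_algebraMap_eq fun c => ((MvPolynomial.aeval g).commutes c).symm
  haveI : Algebra.FormallyUnramified (MvPolynomial ι k) A := hu
  have hexact := KaehlerDifferential.exact_mapBaseChange_map k (MvPolynomial ι k) A
  rw [eq_top_iff]
  rintro ω -
  obtain ⟨z, rfl⟩ := (hexact ω).mp (Subsingleton.elim _ _)
  induction z using TensorProduct.induction_on with
  | zero => simp
  | add x y hx hy => rw [map_add]; exact Submodule.add_mem _ hx hy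
  | tmul c η =>
    rw [KaehlerDifferential.mapBaseChange_tmul]
    refine Submodule.smul_mem _ _ ?_
    have hη : η ∈ Submodule.span (MvPolynomial ι k)
        (Set.range (KaehlerDifferential.mvPolynomialBasis k ι)) := by
      rw [(KaehlerDifferential.mvPolynomialBasis k ι).span_eq]; trivial
    induction hη using Submodule.span_induction with
    | mem x hx =>
      obtain ⟨l, rfl⟩ := hx
      rw [KaehlerDifferential.mvPolynomialBasis_apply, KaehlerDifferential.map_D]
      refine Submodule.subset_span ⟨l, ?_⟩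
      simp [RingHom.algebraMap_toAlgebra]
    | zero => simp
    | add x y _ _ hx hy => rw [map_add]; exact Submodule.add_mem _ hx hy
    | smul a x _ hx =>
      rw [map_smul, ← algebraMap_smul (R := MvPolynomial ι k) A a]
      exact Submodule.smul_mem _ _ hx

theorem exists_basis_D {A : Type u} [CommRing A] [Algebra k A] [Nontrivial A] (n : ℕ)
    [Algebra.IsStandardSmoothOfRelativeDimension n k A] :
    ∃ (b : Module.Basis (Fin n) A Ω[A⁄k]) (a : Fin n → A),
      ∀ j, b j = KaehlerDifferential.D k A (a j) := by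
  haveI := Algebra.IsStandardSmoothOfRelativeDimension.isStandardSmooth n (R := k) (S := A)
  obtain ⟨-, I, b, hb⟩ := Algebra.IsStandardSmooth.iff_exists_basis_kaehlerDifferential.mp
    (inferInstance : Algebra.IsStandardSmooth k A)
  have hrank := Algebra.IsStandardSmoothOfRelativeDimension.rank_kaehlerDifferential (R := k)
    (S := A) n
  have hI := b.mk_eq_rank
  rw [hrank, Cardinal.lift_natCast] at hI
  haveI : Finite I := by
    rw [← Cardinal.lt_aleph0_iff_finite, ← Cardinal.lift_lt_aleph0.{0, u}, hI]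
    exact Cardinal.natCast_lt_aleph0
  haveI := Fintype.ofFinite I
  have hcard : Fintype.card I = n := by
    rw [Cardinal.mk_fintype, Cardinal.lift_natCast] at hI
    exact_mod_cast hI
  let e : I ≃ Fin n := (Fintype.equivFin I).trans (finCongr hcard)
  choose a ha using fun l => hb (Set.mem_range_self (f := b) l)
  exact ⟨b.reindex e, fun j => a (e.symm j), fun j => by rw [b.reindex_apply, ha]⟩

theorem exists_Vchart {n : ℕ} {X : Scheme.{u}} (i : X ⟶ CohB1.ProjSpace r k)
    [SmoothOfRelativeDimension n (i ≫ CohB1.ProjSpace.toSpec r k)] (x : X) :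
    ∃ (j : Fin (r + 1)) (V : X.affineOpens) (_ : x ∈ V.1), V.1 ≤ i ⁻¹ᵁ chart r k j ∧
      ∃ e : V.1 ≤ (i ≫ CohB1.ProjSpace.toSpec r k) ⁻¹ᵁ ⊤,
        RingHom.IsStandardSmoothOfRelativeDimension n
          ((i ≫ CohB1.ProjSpace.toSpec r k).appLE ⊤ V.1 e).hom := by
  obtain ⟨j, hj⟩ : ∃ j, i x ∈ chart r k j := by
    have : i x ∈ (⨆ j, chart r k j) := by
      rw [show (⨆ j, chart r k j) = ⊤ from H11Proj.ProjSpace.iSup_basicOpen r k]; trivial
    exact Opens.mem_iSup.mp this
  obtain ⟨U, hU, V, hV, hxV, e, hstd⟩ :=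
    SmoothOfRelativeDimension.exists_isStandardSmoothOfRelativeDimension (n := n)
      (f := i ≫ CohB1.ProjSpace.toSpec r k) x
  have hUtop : U = ⊤ := eq_top_iff.mpr fun y _ =>
    (Subsingleton.elim (α := PrimeSpectrum k) ((i ≫ CohB1.ProjSpace.toSpec r k) x) y) ▸ e hxV
  subst hUtop
  obtain ⟨g, hgle, hxg⟩ := hV.exists_basicOpen_le (V := i ⁻¹ᵁ chart r k j) ⟨x, hj⟩ hxV
  refine ⟨j, ⟨X.basicOpen g, hV.basicOpen g⟩, hxg, hgle, (X.basicOpen_le g).trans e, ?_⟩
  haveI := hV.isLocalization_basicOpen g
  have h2 := (RingHom.isStandardSmoothOfRelativeDimension_stableUnderCompositionWithLocalizationAway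
    n).2 Γ(X, X.basicOpen g) g _ hstd
  rw [← Scheme.Hom.appLE_map _ e (homOfLE (X.basicOpen_le g)).op, CommRingCat.hom_comp]
  exact h2

theorem smoothOfRelativeDimension_sec {d m : ℕ} {X : Scheme.{u}}
    (i : X ⟶ CohB1.ProjSpace r k) (s : Set (Form r k d))
    (h : ∀ x : X, ∃ V : X.affineOpens, x ∈ V.1 ∧
      RingHom.Locally (RingHom.IsStandardSmoothOfRelativeDimension m)
        ((Ideal.Quotient.mk ((secIdeal i s).ideal V)).comp
          ((Scheme.ΓSpecIso (CommRingCat.of k)).inv ≫
            (i ≫ CohB1.ProjSpace.toSpec r k).appLE ⊤ V.1 (fun _ _ => trivial)).hom)) :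
    SmoothOfRelativeDimension m (secToSpec i s) := by
  choose V hxV hV using h
  let I := secIdeal i s
  have hopen : ∀ U : X.affineOpens, IsOpenImmersion (I.subschemeCover.f U) := fun U =>
    I.subschemeCover.map_prop U
  haveI : IsZariskiLocalAtSource (@SmoothOfRelativeDimension.{u} m) :=
    HasRingHomProperty.instIsZariskiLocalAtSource
      (Q := RingHom.Locally (RingHom.IsStandardSmoothOfRelativeDimension m))
  let 𝒰 : (Sec i s).AffineOpenCover :=
    { I₀ := Sec i s
      X := fun y => .of <| Γ(X, V (secι i s y)) ⧸ I.ideal (V (secι i s y))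
      f := fun y => I.subschemeCover.f (V (secι i s y))
      idx := fun y => y
      map_prop := fun y => hopen (V (secι i s y))
      covers := fun y => by
        have : y ∈ (I.subschemeCover.f (V (secι i s y))).opensRange := by
          rw [Scheme.IdealSheafData.opensRange_subschemeCover_map]
          exact hxV _
        exact this }
  refine (IsZariskiLocalAtSource.iff_of_openCover (P := @SmoothOfRelativeDimension m) 𝒰.openCover).mpr
    fun (y : Sec i s) => ?_
  have key : ∀ U : X.affineOpens, I.subschemeCover.f U ≫ secToSpec i s = Spec.map (CommRingCat.ofHom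
      ((Ideal.Quotient.mk (I.ideal U)).comp
          ((Scheme.ΓSpecIso (CommRingCat.of k)).inv ≫
            (i ≫ CohB1.ProjSpace.toSpec r k).appLE ⊤ U.1 (fun _ _ => trivial)).hom)) := by
    intro U
    have e := IsAffineOpen.SpecMap_appLE_fromSpec (i ≫ CohB1.ProjSpace.toSpec r k)
      (isAffineOpen_top (Spec (CommRingCat.of k))) U.2 (fun _ _ => trivial)
    rw [IsAffineOpen.fromSpec_top, Scheme.isoSpec_Spec_inv, ← Spec.map_comp] at e
    have h0 := (Scheme.IdealSheafData.subschemeCover_map_subschemeι I U).trans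
      (Scheme.IdealSheafData.glueDataObjι_ι I U)
    refine (Category.assoc _ _ _).symm.trans ?_
    refine (congrArg (· ≫ (i ≫ CohB1.ProjSpace.toSpec r k)) h0).trans ?_
    refine (Category.assoc _ _ _).trans ?_
    exact (congrArg (Spec.map _ ≫ ·) e.symm).trans (Spec.map_comp _ _).symm
  have this : 𝒰.openCover.f y ≫ secToSpec i s = _ := key (V (secι i s y))
  rw [this]
  exact (HasRingHomProperty.Spec_iff (P := @SmoothOfRelativeDimension m)).mpr (hV _)

theorem isDomain_sections {n : ℕ} {X : Scheme.{u}} [IrreducibleSpace X] (V : X.affineOpens)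
    (hne : (V.1 : Set X).Nonempty) [Algebra k Γ(X, V.1)]
    [Algebra.IsStandardSmoothOfRelativeDimension n k Γ(X, V.1)] : IsDomain Γ(X, V.1) := by
  haveI := Algebra.IsStandardSmoothOfRelativeDimension.isStandardSmooth n (R := k) (S := Γ(X, V.1))
  haveI : _root_.IsReduced Γ(X, V.1) := H02CA.isReduced_of_smooth k _
  haveI : IrreducibleSpace (Spec Γ(X, V.1)) := by
    rw [irreducibleSpace_def]
    refine ⟨?_, IsPreirreducible.preimage (PreirreducibleSpace.isPreirreducible_univ (X := X))
      (IsAffineOpen.fromSpec (show IsAffineOpen V.1 from V.2)).isOpenEmbedding⟩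
    obtain ⟨x, hx⟩ := hne
    obtain ⟨y, -⟩ : x ∈ Set.range V.2.fromSpec := by rw [V.2.range_fromSpec]; exact hx
    exact ⟨y, trivial⟩
  haveI : (nilradical Γ(X, V.1)).IsPrime :=
    (PrimeSpectrum.irreducibleSpace_iff_isPrime_nilradical (R := Γ(X, V.1))).mp
      ‹IrreducibleSpace (Spec Γ(X, V.1))›
  rw [nilradical_eq_zero] at *
  exact IsDomain.of_bot_isPrime _

theorem ringKrullDim_sections {n : ℕ} {X : Scheme.{u}} (f : X ⟶ Spec (CommRingCat.of k))
    [SmoothOfRelativeDimension n f] (V : X.affineOpens) [IsDomain Γ(X, V.1)] :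
    ringKrullDim Γ(X, V.1) = n := by
  haveI := SmoothOfRelativeDimension.smooth n f
  let p : PrimeSpectrum Γ(X, V.1) := ⟨⊥, Ideal.isPrime_bot⟩
  have hV : IsAffineOpen V.1 := V.2
  haveI := hV.isOpenImmersion_fromSpec
  have h := H8Props.FieldDim.localDim_chart f hV.fromSpec p
  erw [H8Props.FieldDim.localDim_eq_of_smooth f n] at h
  rw [h]
  simp [p, ringKrullDim_eq_of_ringEquiv (RingEquiv.quotientBot Γ(X, V.1))]

/-- **general sections are transversal**. -/
theorem isGeneric_transversal [IsAlgClosed k] {n d : ℕ} (hn : 1 ≤ n) (hd : 1 ≤ d)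
    {X : Scheme.{u}} (i : X ⟶ CohB1.ProjSpace r k) [IsClosedImmersion i] [IrreducibleSpace X]
    [SmoothOfRelativeDimension n (i ≫ CohB1.ProjSpace.toSpec r k)] :
    IsGeneric k {H : Form r k d | Transversal k n 1 (secToSpec i ({H} : Set (Form r k d)))} := by
  classical
  haveI : Module.Finite k (Form r k d) :=
    Module.Finite.iff_fg.mpr (MvPolynomial.homogeneousSubmodule_fg (σ := Fin (r + 1)) (R := k) d)
  haveI := SmoothOfRelativeDimension.smooth n (i ≫ CohB1.ProjSpace.toSpec r k)
  have hcompact : IsCompact (Set.univ : Set X) := by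
    have : (Set.univ : Set X) = ⋃ j : Fin (r + 1), (i ⁻¹ᵁ chart r k j : Set X) := by
      refine (Set.eq_univ_of_forall fun x => Set.mem_iUnion.mpr ?_).symm
      have hx : i x ∈ (⨆ j, chart r k j) := by
        rw [show (⨆ j, chart r k j) = ⊤ from H11Proj.ProjSpace.iSup_basicOpen r k]; trivial
      obtain ⟨j, hj⟩ := Opens.mem_iSup.mp hx
      exact ⟨j, hj⟩
    rw [this]
    exact isCompact_iUnion fun j => ((chartU r k j).2.preimage i).isCompact
  choose j V hxV hle he hstd using exists_Vchart (n := n) i
  obtain ⟨T, hT⟩ := hcompact.elim_finite_subcover (fun x => ((V x).1 : Set X))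
    (fun x => (V x).1.isOpen) fun x _ => Set.mem_iUnion.mpr ⟨x, hxV x⟩
  have key : ∀ x : X, IsGeneric k {H : Form r k d |
      RingHom.Locally (RingHom.IsStandardSmoothOfRelativeDimension (n - 1))
        ((Ideal.Quotient.mk ((secIdeal i {H}).ideal (V x))).comp
          ((Scheme.ΓSpecIso (CommRingCat.of k)).inv ≫
            (i ≫ CohB1.ProjSpace.toSpec r k).appLE ⊤ (V x).1 (fun _ _ => trivial)).hom)} := by
    intro x
    let φ := (Scheme.ΓSpecIso (CommRingCat.of k)).inv ≫
      (i ≫ CohB1.ProjSpace.toSpec r k).appLE ⊤ (V x).1 (fun _ _ => trivial)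
    letI : Algebra k Γ(X, (V x).1) := φ.hom.toAlgebra
    haveI : Algebra.IsStandardSmoothOfRelativeDimension n k Γ(X, (V x).1) :=
      RingHom.isStandardSmoothOfRelativeDimension_respectsIso.2 _
        (Scheme.ΓSpecIso (CommRingCat.of k)).symm.commRingCatIsoToRingEquiv (hstd x)
    haveI := Algebra.IsStandardSmoothOfRelativeDimension.isStandardSmooth n (R := k)
      (S := Γ(X, (V x).1))
    haveI : IsDomain Γ(X, (V x).1) := isDomain_sections (k := k) (n := n) (V x) ⟨x, hxV x⟩
    haveI : Algebra.FinitePresentation k Γ(X, (V x).1) := inferInstance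
    haveI : Algebra.FiniteType k Γ(X, (V x).1) := inferInstance
    obtain ⟨b, a, hb⟩ := exists_basis_D (k := k) (A := Γ(X, (V x).1)) n
    let ψR : MvPolynomial (Fin (r + 1)) k →+* Γ(X, (V x).1) :=
      (i.appLE (chart r k (j x)) (V x).1 (hle x)).hom.comp (polyToSection r k (j x))
    have hψC : ∀ c, ψR (MvPolynomial.C c) = algebraMap k Γ(X, (V x).1) c := by
      have h1 : Spec.map φ = Spec.map (CommRingCat.ofHom (ψR.comp MvPolynomial.C)) := by
        rw [show CommRingCat.ofHom (ψR.comp MvPolynomial.C) =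
          CommRingCat.ofHom ((polyToSection r k (j x)).comp MvPolynomial.C) ≫
            i.appLE (chart r k (j x)) (V x).1 (hle x) from rfl, Spec.map_comp _ (i.appLE _ _ _),
          ← fromSpec_toSpec]
        refine Eq.trans ?_ (Category.assoc _ _ _)
        erw [IsAffineOpen.SpecMap_appLE_fromSpec i (chartU r k (j x)).2 (V x).2 (hle x)]
        rw [Category.assoc, ← IsAffineOpen.SpecMap_appLE_fromSpec
          (i ≫ CohB1.ProjSpace.toSpec r k) (isAffineOpen_top _) (V x).2 (fun _ _ => trivial),
          IsAffineOpen.fromSpec_top, Scheme.isoSpec_Spec_inv, ← Spec.map_comp]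
      intro c
      exact (RingHom.congr_fun (congrArg CommRingCat.Hom.hom (Spec.map_injective h1)) c).symm
    let g : Fin (r + 1) → Γ(X, (V x).1) := fun l => ψR (MvPolynomial.X l)
    have hψ : ∀ F, MvPolynomial.aeval g F = ψR F := fun F => by
      change (MvPolynomial.aeval g).toRingHom F = ψR F
      congr 1
      exact MvPolynomial.ringHom_ext (fun c => by simp [hψC]) (fun l => by simp [g])
    let L : Form r k d →ₗ[k] Γ(X, (V x).1) :=
      (MvPolynomial.aeval g).toLinearMap ∘ₗ (CohB1.polyGrading r k d).subtype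
    have hgj : g (j x) = 1 := by
      change (i.appLE _ _ _).hom (polyToSection r k (j x) _) = 1
      rw [polyToSection_self, map_one]
    have hgen : Submodule.span Γ(X, (V x).1)
        (Set.range fun l => KaehlerDifferential.D k Γ(X, (V x).1) (g l)) = ⊤ := by
      refine span_D_generators g ?_
      have : (MvPolynomial.aeval (R := k) g).toRingHom = ψR := RingHom.ext hψ
      rw [this]
      exact RingHom.FormallyUnramified.stableUnderComposition _ _
        (RingHom.FormallyUnramified.of_surjective (polyToSection_surjective (j x)))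
        (HasRingHomProperty.appLE @FormallyUnramified i inferInstance (chartU r k (j x)) (V x)
          (hle x))
    have hφ : ∀ l, ∃ v, L v = g l := fun l => by
      refine ⟨⟨MvPolynomial.X (j x) ^ (d - 1) * MvPolynomial.X l, ?_⟩, ?_⟩
      · have h := ((MvPolynomial.isHomogeneous_X k (j x)).pow (d - 1)).mul
          (MvPolynomial.isHomogeneous_X k l)
        rw [show 1 * (d - 1) + 1 = d by omega] at h
        exact h
      · simp [L, hgj]
    haveI : FaithfulSMul k Γ(X, (V x).1) :=
      (faithfulSMul_iff_algebraMap_injective k _).mpr (algebraMap k Γ(X, (V x).1)).injective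
    refine H25Param.isGeneric_mono ?_ (H25Param.isGeneric_avoid_incidence (condMap b L)
      ((trdeg_le (ringKrullDim_sections (i ≫ CohB1.ProjSpace.toSpec r k) (V x))).trans_lt (by
        rw [Fintype.card_option, Fintype.card_fin]; exact_mod_cast Nat.lt_succ_self n)))
    intro H hH
    have hI : (secIdeal i {H}).ideal (V x) = Ideal.span {L H} := by
      rw [secIdeal, iSup_singleton, H29Blow.ideal_comap _ i (chartU r k (j x)) (V x) (hle x),
        hypIdeal_ideal_chart]
      refine (Ideal.map_span _ _).trans ((congrArg Ideal.span Set.image_singleton).trans ?_)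
      congr 2
      change (i.appLE _ _ _).hom (dehom H (j x)) = MvPolynomial.aeval g H.1
      rw [hψ, ← polyToSection_form]
      rfl
    have hu : Ideal.span ({L H} ∪ Set.range fun l =>
        b.repr (KaehlerDifferential.D k Γ(X, (V x).1) (L H)) l) = ⊤ := by
      by_contra hne
      obtain ⟨p, hp⟩ := exists_point (k := k) hne
      refine hH p (condMap_surjective b L g (j x) hgj hgen hφ p) (funext fun o => ?_)
      rcases o with _ | l
      · exact hp _ (Ideal.subset_span (Or.inl rfl))
      · exact hp _ (Ideal.subset_span (Or.inr ⟨l, rfl⟩))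
    have := locally_standardSmooth b a hb (L H) hu
    change RingHom.Locally _ ((Ideal.Quotient.mk _).comp (algebraMap k Γ(X, (V x).1)))
    rw [hI]
    exact this
  refine H25Param.isGeneric_mono ?_ (H25Param.isGeneric_iInter (ι := ↥T) fun x => key x.1)
  intro H hH
  refine Or.inl ⟨hn, smoothOfRelativeDimension_sec i {H} fun x => ?_⟩
  obtain ⟨t, ht⟩ := Set.mem_iUnion.mp (hT (Set.mem_univ x))
  obtain ⟨htT, htx⟩ := Set.mem_iUnion.mp ht
  exact ⟨V t, htx, Set.mem_iInter.mp hH ⟨t, htT⟩⟩

end Groth.Agent.H25Transversal
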